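import Mathlib

/-!
Explicit data for `SL(3,3)`: transvections, involutions, the plane of order three.
-/

set_option autoImplicit false

namespace Cfsg.Agent.H78.PSL33

abbrev K := ZMod 3

/-- a 3x3 matrix as nine entries -/
structure M3 where
  a : K
  b : K
  c : K
  d : K
  e : K
  f : K
  g : K
  h : K
  i : K
deriving DecidableEq

namespace M3

/-- product -/
def mul (x y : M3) : M3 :=
  ⟨x.a * y.a + x.b * y.d + x.c * y.g, x.a * y.b + x.b * y.e + x.c * y.h, x.a * y.c + x.b * y.f + x.c * y.i,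
   x.d * y.a + x.e * y.d + x.f * y.g, x.d * y.b + x.e * y.e + x.f * y.h, x.d * y.c + x.e * y.f + x.f * y.i,
   x.g * y.a + x.h * y.d + x.i * y.g, x.g * y.b + x.h * y.e + x.i * y.h, x.g * y.c + x.h * y.f + x.i * y.i⟩

/-- identity -/
def id3 : M3 := ⟨1, 0, 0, 0, 1, 0, 0, 0, 1⟩

/-- `x - 1` -/
def pred1 (x : M3) : M3 := ⟨x.a - 1, x.b, x.c, x.d, x.e - 1, x.f, x.g, x.h, x.i - 1⟩

/-- zero -/
def zero : M3 := ⟨0, 0, 0, 0, 0, 0, 0, 0, 0⟩

/-- determinant -/
def det (x : M3) : K :=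
  x.a * (x.e * x.i - x.f * x.h) - x.b * (x.d * x.i - x.f * x.g) + x.c * (x.d * x.h - x.e * x.g)

/-- first coordinate of the image of a vector -/
def ap (x : M3) (v : K × K × K) : K × K × K :=
  (x.a * v.1 + x.b * v.2.1 + x.c * v.2.2, x.d * v.1 + x.e * v.2.1 + x.f * v.2.2,
   x.g * v.1 + x.h * v.2.1 + x.i * v.2.2)

/-- determinant of three columns -/
def det3 (u v w : K × K × K) : K :=
  u.1 * (v.2.1 * w.2.2 - v.2.2 * w.2.1) - v.1 * (u.2.1 * w.2.2 - u.2.2 * w.2.1) +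
    w.1 * (u.2.1 * v.2.2 - u.2.2 * v.2.1)

/-- decode -/
def ofCode (n : ℕ) : M3 :=
  ⟨(n : K), (n / 3 : ℕ), (n / 9 : ℕ), (n / 27 : ℕ), (n / 81 : ℕ), (n / 243 : ℕ), (n / 729 : ℕ),
   (n / 2187 : ℕ), (n / 6561 : ℕ)⟩

end M3

/-- the thirteen points, three coordinates each -/
def ptsList : List ℕ := [0, 0, 1, 0, 1, 0, 0, 1, 1, 0, 1, 2, 1, 0, 0, 1, 0, 1, 1, 0, 2, 1, 1, 0, 1, 1, 1, 1, 1, 2, 1, 2, 0, 1, 2, 1, 1, 2, 2]

/-- the four lines through each point -/
def incList : List ℕ := [1, 4, 7, 10, 0, 4, 5, 6, 3, 4, 9, 11, 2, 4, 8, 12, 0, 1, 2, 3, 1, 6, 9, 12, 1, 5, 8, 11, 0, 10, 11, 12, 3, 6, 8, 10, 2, 5, 9, 10, 0, 7, 8, 9, 2, 6, 7, 11, 3, 5, 7, 12]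

/-- the nine lines off each point -/
def nonList : List ℕ := [0, 2, 3, 5, 6, 8, 9, 11, 12, 1, 2, 3, 7, 8, 9, 10, 11, 12, 0, 1, 2, 5, 6, 7, 8, 10, 12, 0, 1, 3, 5, 6, 7, 9, 10, 11, 4, 5, 6, 7, 8, 9, 10, 11, 12, 0, 2, 3, 4, 5, 7, 8, 10, 11, 0, 2, 3, 4, 6, 7, 9, 10, 12, 1, 2, 3, 4, 5, 6, 7, 8, 9, 0, 1, 2, 4, 5, 7, 9, 11, 12, 0, 1, 3, 4, 6, 7, 8, 11, 12, 1, 2, 3, 4, 5, 6, 10, 11, 12, 0, 1, 3, 4, 5, 8, 9, 10, 12, 0, 1, 2, 4, 6, 8, 9, 10, 11]

/-- coordinates of a point -/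
def pvec (p : ℕ) : K × K × K :=
  ((ptsList.getD (3 * p) 0 : ℕ), (ptsList.getD (3 * p + 1) 0 : ℕ), (ptsList.getD (3 * p + 2) 0 : ℕ))

/-- `c + s v φ` -/
def rankOne (c s : K) (v φ : K × K × K) : M3 :=
  ⟨c + s * v.1 * φ.1, s * v.1 * φ.2.1, s * v.1 * φ.2.2,
   s * v.2.1 * φ.1, c + s * v.2.1 * φ.2.1, s * v.2.1 * φ.2.2,
   s * v.2.2 * φ.1, s * v.2.2 * φ.2.1, c + s * v.2.2 * φ.2.2⟩

/-- point of a transvection -/
def tPt (k : ℕ) : ℕ := k / 8

/-- line of a transvection -/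
def tLn (k : ℕ) : ℕ := incList.getD (4 * (k / 8) + k % 8 / 2) 0

/-- the transvections -/
def tM (k : ℕ) : M3 := rankOne 1 ((1 + k % 2 : ℕ)) (pvec (tPt k)) (pvec (tLn k))

/-- inner product -/
def dot (v φ : K × K × K) : K := v.1 * φ.1 + v.2.1 * φ.2.1 + v.2.2 * φ.2.2

/-- the involutions -/
def sM (k : ℕ) : M3 :=
  rankOne 2 (2 * dot (pvec (k / 9)) (pvec (nonList.getD k 0))) (pvec (k / 9)) (pvec (nonList.getD k 0))

/-- conjugators from the first transvection -/
def tConjList : List ℕ := [6643, 13205, 6618, 13152, 6697, 13232, 13259, 6670, 2432, 4618, 975, 1947, 3161, 6076, 5347, 3890, 11179, 8993, 7536, 15069, 11908, 10451, 9722, 12637, 15554, 17740, 14097, 8508, 16283, 19198, 18469, 17012, 2223, 4437, 1548, 900, 3681, 5166, 5895, 2952, 8109, 7461, 10998, 8784, 12456, 9513, 11727, 10242, 14670, 14022, 15345, 17559, 16803, 18288, 16074, 19017, 2466, 4680, 1143, 1791, 3195, 6138, 5409, 3924, 12699, 9756, 11241, 9027, 10485, 11970,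 7704, 8352, 17046, 18531, 15588, 17802, 19260, 16317, 14265, 14913, 2709, 4923, 2034, 1386, 4167, 5652, 6381, 3438, 10728, 12213, 11484, 9270, 8595, 7947, 9999, 12942, 19503, 16560, 15831, 18045, 15156, 14508, 18774, 17289]

/-- conjugators from the first involution -/
def sConjList : List ℕ := [13152, 14610, 13881, 17526, 15339, 18984, 16068, 18255, 16797, 975, 1974, 1002, 1137, 6348, 3189, 1056, 5376, 4161, 13638, 7536, 8292, 18012, 15825, 7698, 12666, 7617, 10479, 13395, 14097, 7806, 17769, 15582, 14259, 9993, 14178, 12180, 1548, 4440, 2226, 903, 5169, 2955, 1551, 5898, 3684, 6627, 7356, 8085, 8109, 10974, 7464, 12432, 8112, 11703, 13161, 14619, 13890, 14670, 15375, 14025, 16833, 14673, 16104, 984, 1038, 1011, 1791, 4683, 2469, 1875, 6114, 3954, 6870, 7545, 8301, 8352, 11217, 8436, 9759, 12702, 9786, 13404, 14106, 14889, 14913, 15618, 14997, 18534, 18507, 17049, 1956, 1983, 2010, 2034, 4926, 2712, 1308, 5628, 3468, 7113, 8517,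 7815, 8595, 11460, 12216, 10758, 7869, 10731, 13647, 15078, 14403, 15156, 15861, 19479, 16563, 14430, 19506]

/-- conjugator to the transvection `k` -/
def tConj (k : ℕ) : M3 := M3.ofCode (tConjList.getD k 0)

/-- conjugator to the involution `k` -/
def sConj (k : ℕ) : M3 := M3.ofCode (sConjList.getD k 0)

/-- adjacency masks of the incidence graph -/
def adjList : List ℕ := [9584640, 925696, 21168128, 35815424, 122880, 38289408, 19152896, 58728448, 11075584, 12877824, 7348224, 18382848, 34930688, 1170, 113, 2584, 4372, 15, 4674, 2338, 7169, 1352, 1572, 897, 2244, 4264]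

/-- incidence -/
def adj (x y : Fin 26) : Bool := (adjList.getD x.val 0).testBit y.val

/-- construction steps from the frame -/
def chain : List (Fin 26 × Fin 26 × Fin 26) := [(0, 1, 17), (0, 4, 14), (0, 8, 23), (1, 4, 13), (1, 8, 19), (4, 8, 16), (17, 16, 2), (14, 19, 5), (23, 13, 7), (2, 5, 22), (23, 22, 9), (1, 9, 18), (4, 9, 15), (17, 15, 3), (8, 3, 21), (14, 18, 6), (13, 22, 10), (0, 10, 20), (19, 15, 11), (16, 18, 12), (2, 7, 24), (5, 7, 25)]

/-- Boolean test over the field -/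
def allK (f : K → Bool) : Bool := f 0 && f 1 && f 2

theorem allK_spec {f : K → Bool} (h : allK f = true) : ∀ x, f x = true := by
  simp only [allK, Bool.and_eq_true] at h
  intro x
  fin_cases x
  · exact h.1.1
  · exact h.1.2
  · exact h.2

/-- classification test -/
def classifyB (m : M3) : Bool :=
  m.det != 1 || m == M3.id3 ||
    (if m.pred1.mul m.pred1 == M3.zero then (List.range 104).any fun k => tM k == m
     else if m.mul m == M3.id3 then (List.range 117).any fun k => sM k == m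
     else (List.range 13).any fun p => M3.det3 (pvec p) (m.ap (pvec p)) (m.ap (m.ap (pvec p))) != 0)

theorem classify_all :
    (allK fun a => allK fun b => allK fun c => allK fun d => allK fun e => allK fun f =>
      allK fun g => allK fun h => allK fun i => classifyB ⟨a, b, c, d, e, f, g, h, i⟩) = true := by
  decide +kernel

theorem classify (m : M3) : classifyB m = true :=
  allK_spec (allK_spec (allK_spec (allK_spec (allK_spec (allK_spec (allK_spec (allK_spec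
    (allK_spec classify_all m.a) m.b) m.c) m.d) m.e) m.f) m.g) m.h) m.i

end Cfsg.Agent.H78.PSL33
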